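import Mathlib
import Cfsg.Agent.SPOR.W6.Base
import Cfsg.Agent.REC.Amal2

/-! Groups with a 2-local subgroup `2^6 : Sp₆(2)` (modulo core): definitions. -/

set_option autoImplicit false
set_option maxRecDepth 100000

namespace CL.A64

open CL.K CL.CG CL.F2M CL.MSS CL.W6 CL.LE CL.Rec Cfsg

/-- the natural module -/
abbrev V6 : Type := Fin 6 → ZMod 2

/-- the module `J / ⟨z⟩`, coordinates `v = (0..3)`, `u = (4..7)`, `μ = 8` -/
abbrev V9 : Type := Fin 9 → ZMod 2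

/-- its linear group -/
abbrev G9 : Type := GL (Fin 9) (ZMod 2)

/-- the squaring form -/
def q9 (v : V9) : ZMod 2 := v 0 * v 5 + v 1 * v 4 + v 2 * v 7 + v 3 * v 6

/-- the radical vector -/
def d9 : V9 := Pi.single 8 1

/-- the image of `A ⊓ J` -/
def W0 (v : V9) : Prop := ∀ i : Fin 9, 4 ≤ i.val → v i = 0

/-- multiplication of codes -/
noncomputable abbrev m9 : ℕ → ℕ → ℕ := mulC 9 0x1008040201008040201 511

/-- the code of the identity -/
abbrev c9 : ℕ := 0x100401004010040100401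

theorem ok9 : OK 9 0x1008040201008040201 511 := ⟨by decide, by decide, by decide +kernel⟩

theorem C9 : IsCode (gcode : G9 → ℕ) m9 c9 := (show oneC 9 = c9 by decide +kernel) ▸ ok9.isCode

/-- the map `(v, u, μ) ↦ (v + u, u, μ)` -/
abbrev cR : ℕ := 0x100441104411040100401

/-- five involutions `s₁₂, s₂₃, s₃₄, s₄₅, s₅₆` generating `S₆`; `R * s` is
`(v, u, μ) ↦ (a v, a u, μ + q₀ u + q₀ (a u))` with `a ∈ Sp₄(2)`, `q₀ u = u₀ u₁ + u₂ u₃` -/
def LY : List ℕ := [0x100998479844018041804, 0x100441555411040141401, 0x1009988889cc01808080c,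
  0x1004c910cc11048100c01, 0x100445dd54990401c1409]

/-- the sixth node of the `E₆` diagram -/
abbrev cB : ℕ := 0x1009549840dc4110a441d

/-- the involution induced by `r` -/
noncomputable def R9 : G9 := elt gcode cR

/-- the group `2 × S₆` -/
noncomputable def YY : Subgroup G9 := gen gcode (cR :: LY)

/-- the group `W(E₆)` -/
noncomputable def XX : Subgroup G9 := gen gcode (cB :: LY)

theorem mem_LX : ∀ c ∈ cR :: cB :: LY, Mem (gcode : G9 → ℕ) ⊤ c := fun c hc =>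
  ok9.mem_of_unitB (b := c) ((lall_iff (p := fun c => F2M.unitB 9 0x1008040201008040201 511 c c)).1
    (by decide +kernel) c hc)

theorem code_R9 : gcode R9 = cR := (mem_LX _ List.mem_cons_self).code_elt

variable {G : Type*} [Group G]

/-- coordinates on `J ≅ 2 × 2^(1+8)` modulo `z` -/
structure Fr (z : G) (J : Subgroup G) (lam : G → V9) : Prop where
  z1 : z ≠ 1
  zz : z * z = 1
  zJ : z ∈ J
  cz : ∀ j ∈ J, Commute j z
  add : ∀ j ∈ J, ∀ k ∈ J, lam (j * k) = lam j + lam k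
  ker : ∀ j ∈ J, lam j = 0 ↔ j = 1 ∨ j = z
  onto : ∀ v, ∃ j ∈ J, lam j = v
  sq : ∀ j ∈ J, j * j = if q9 (lam j) = 0 then 1 else z

/-- `g` centralises `z`, normalises `J` and acts as `y` -/
def Acts (z : G) (J : Subgroup G) (lam : G → V9) (g : G) (y : G9) : Prop :=
  Commute g z ∧ ∀ j ∈ J, g * j * g⁻¹ ∈ J ∧ lam (g * j * g⁻¹) = y • lam j

/-- the local data -/
structure Loc (z r : G) (A J : Subgroup G) (lam : G → V9) : Prop extends Fr z J lam where
  rr : r * r = 1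
  actr : Acts z J lam r R9
  memA : ∀ x, x ∈ A ↔ (x ∈ J ∧ W0 (lam x)) ∨ (x * r ∈ J ∧ W0 (lam (x * r)))
  commA : ∀ a ∈ A, ∀ b ∈ A, Commute a b
  rd : ∀ j ∈ J, lam j = d9 → ¬ Commute r j
  lift : ∀ c ∈ LY, ∃ k ∈ NV A, Acts z J lam k (elt gcode c) ∧ ∀ j ∈ J, lam j = d9 → ¬ Commute k j
  invl : ∀ y ∈ YY, y * y = 1 → ∃ t, t * t = 1 ∧ Acts z J lam t y
  up : ∀ g ∈ NV A, ∀ y, Acts z J lam g y → y ∈ YY ∧ (y = 1 → Tw g → g ∈ J)

/-- the hypotheses on the normaliser of `A`, in coordinates -/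
structure Sym (A O K : Subgroup G) (α : V6 → G) (σ : NV A →* Sp6) : Prop where
  add : ∀ v w, α (v + w) = α v * α w
  inj : ∀ v, α v = 1 → v = 0
  memA : ∀ x, x ∈ A ↔ ∃ v, α v = x
  act : ∀ (n : NV A) (v : V6), (n : G) * α v * (n : G)⁻¹ = α (spHom (σ n) • v)
  onto : Function.Surjective σ
  odd : ¬ 2 ∣ Nat.card O
  OC : O ≤ CZ A
  On : NV A ≤ NV O
  cent : ∀ c ∈ CZ A, ∃ o ∈ O, ∃ a ∈ A, c = o * a
  KN : K ≤ NV A
  OleK : O ≤ K
  fac : ∀ n ∈ NV A, ∃ a ∈ A, ∃ k ∈ K, n = a * k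
  disj : ∀ k ∈ K, k ∈ A → k = 1

/-- the first basis vector -/
def e0 : V6 := Pi.single 0 1

/-- the core of the centraliser -/
abbrev th (a : G) : Subgroup G := centralizerPPrimeCore 2 a

end CL.A64
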